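import Mathlib
import Groth.Agent.HenselLib.TFAE
import Groth.Agent.HenselLib.Local
import Groth.Agent.AdicLim.Noetherian
import Groth.Agent.S9604

/-! A finite algebra over a complete Noetherian local ring. -/

namespace Groth.Agent.CplFinite

open Groth.Agent

universe u

theorem main (R : Type u) [CommRing R]
    [IsLocalRing R] [IsNoetherianRing R] [IsAdicComplete (IsLocalRing.maximalIdeal R) R]
    (S : Type u) [CommRing S] [Algebra R S] [Module.Finite R S] :
    Finite (MaximalSpectrum S) ∧
      Function.Bijective
        (algebraMap S ((m : MaximalSpectrum S) → Localization.AtPrime m.asIdeal)) ∧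
      ∀ m : MaximalSpectrum S, IsNoetherianRing (Localization.AtPrime m.asIdeal) ∧
        IsAdicComplete (IsLocalRing.maximalIdeal (Localization.AtPrime m.asIdeal))
          (Localization.AtPrime m.asIdeal) := by
  haveI hfin : Finite (MaximalSpectrum S) := HenselLib.finite_maximalSpectrum_of_finite R
  haveI : Algebra.IsIntegral R S := Algebra.IsIntegral.of_finite R S
  have hsurj : Set.SurjOn (Ideal.Quotient.mk ((IsLocalRing.maximalIdeal R).map (algebraMap R S)))
      {e : S | IsIdempotentElem e} {e | IsIdempotentElem e} :=
    (HenselLib.bijOn_idem (IsLocalRing.maximalIdeal R) S).surjOn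
  have hbij : Function.Bijective
      (algebraMap S ((m : MaximalSpectrum S) → Localization.AtPrime m.asIdeal)) :=
    HenselLib.bijective_pi_localization fun M => by
      haveI := M.isMaximal
      exact HenselLib.exists_separating_idem hsurj M.asIdeal
  refine ⟨hfin, hbij, fun m => ?_⟩
  haveI : IsNoetherianRing S := IsNoetherianRing.of_finite R S
  haveI : IsNoetherianRing (Localization.AtPrime m.asIdeal) :=
    IsLocalization.isNoetherianRing m.asIdeal.primeCompl _ inferInstance
  refine ⟨inferInstance, ?_⟩
  haveI : Module.Finite R (Localization.AtPrime m.asIdeal) := by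
    refine Module.Finite.of_surjective
      (IsScalarTower.toAlgHom R S (Localization.AtPrime m.asIdeal)).toLinearMap fun y => ?_
    classical
    obtain ⟨x, hx⟩ := hbij.2 (Pi.single m y)
    refine ⟨x, ?_⟩
    have := congrFun hx m
    rw [Pi.single_eq_same] at this
    exact this
  haveI : Algebra.IsIntegral R (Localization.AtPrime m.asIdeal) := Algebra.IsIntegral.of_finite R _
  set J := (IsLocalRing.maximalIdeal R).map (algebraMap R (Localization.AtPrime m.asIdeal)) with hJ
  haveI : IsAdicComplete J (Localization.AtPrime m.asIdeal) :=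
    (IsAdicComplete.map_algebraMap_iff _ _).2
      (AdicLim.isAdicComplete_of_finite (I := IsLocalRing.maximalIdeal R) _)
  have hle : IsLocalRing.maximalIdeal (Localization.AtPrime m.asIdeal) ≤ J.radical := by
    rw [Ideal.radical_eq_sInf]
    refine le_sInf fun P hP => ?_
    haveI := hP.2
    have hc : P.comap (algebraMap R (Localization.AtPrime m.asIdeal)) =
        IsLocalRing.maximalIdeal R :=
      le_antisymm (IsLocalRing.le_maximalIdeal (Ideal.IsPrime.ne_top inferInstance))
        (Ideal.map_le_iff_le_comap.mp hP.1)
    have hmax : P.IsMaximal :=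
      Ideal.isMaximal_of_isIntegral_of_isMaximal_comap P (by rw [hc]; infer_instance)
    rw [IsLocalRing.eq_maximalIdeal hmax]
  obtain ⟨k, hk⟩ := Ideal.exists_pow_le_of_le_radical_of_fg hle (IsNoetherian.noetherian _)
  refine (S9604.result J (IsLocalRing.maximalIdeal _) 1 (k + 1) one_pos k.succ_pos ?_ ?_ _).mp
    inferInstance
  · rw [pow_one]
    exact HenselLib.map_maximalIdeal_le _
  · exact (Ideal.pow_le_pow_right k.le_succ).trans hk

end Groth.Agent.CplFinite
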